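import Groth.Prelude.Def_MoreMor
import Groth.Prelude.Def_CurvBase
import Groth.Agent.GeomLoci.GenericCounts
import Groth.Agent.QFCount.Dvr
import Groth.Agent.S2257

/-!
# Geometric number of components of a finite scheme over a field
-/

set_option autoImplicit false
set_option backward.isDefEq.respectTransparency false
set_option backward.isDefEq.respectTransparency.types false
set_option linter.style.haveILetI false

universe u

open CategoryTheory CategoryTheory.Limits AlgebraicGeometry TensorProduct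

attribute [local instance] Curv2.resAlgebra

namespace Groth.Agent.SteinFin

variable (k : Type u) [Field k] (X : Scheme.{u}) [X.Over (Spec (CommRingCat.of k))]

/-- The `k`-algebra of global functions. -/
noncomputable abbrev globalAlg : Algebra k Γ(X, ⊤) :=
  (Coh.toGlobal (X ↘ Spec (CommRingCat.of k))).toAlgebra

theorem over_eq [IsAffine X] :
    (X ↘ Spec (CommRingCat.of k)) =
      X.isoSpec.hom ≫ Spec.map (CommRingCat.ofHom (Coh.toGlobal (X ↘ Spec (CommRingCat.of k)))) := by
  have h := Scheme.isoSpec_inv_naturality (X ↘ Spec (CommRingCat.of k))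
  rw [Iso.eq_inv_comp] at h
  conv_lhs => rw [← h]
  show _ = X.isoSpec.hom ≫ Spec.map ((Scheme.ΓSpecIso (CommRingCat.of k)).inv ≫ (X ↘ Spec (CommRingCat.of k)).appTop)
  rw [Spec.map_comp, Scheme.isoSpec_Spec_inv]

attribute [local instance] globalAlg

theorem card_geom_fibre [IsFinite (X ↘ Spec (CommRingCat.of k))] (pt : ↥(Spec (CommRingCat.of k)))
    (Ω : Type u) [Field Ω] [Algebra k Ω] [IsAlgClosed Ω] :
    haveI : IsAffine X := isAffine_of_isAffineHom (X ↘ Spec (CommRingCat.of k))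
    MoreMor.nGeomConnComp (X ↘ Spec (CommRingCat.of k)) pt = ENat.card (PrimeSpectrum (Ω ⊗[k] Γ(X, ⊤))) ∧
      Module.Finite k Γ(X, ⊤) := by
  haveI : IsAffine X := isAffine_of_isAffineHom (X ↘ Spec (CommRingCat.of k))
  let f := X ↘ Spec (CommRingCat.of k)
  have hf : f = X.isoSpec.hom ≫ Spec.map (CommRingCat.ofHom (algebraMap k Γ(X, ⊤))) := over_eq k X
  haveI : IsFinite (Spec.map (CommRingCat.ofHom (algebraMap k Γ(X, ⊤)))) := by
    rw [show Spec.map (CommRingCat.ofHom (algebraMap k Γ(X, ⊤))) = X.isoSpec.inv ≫ f by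
      rw [hf, Iso.inv_hom_id_assoc]]
    infer_instance
  haveI hfin : Module.Finite k Γ(X, ⊤) :=
    RingHom.finite_algebraMap.1 ((IsFinite.SpecMap_iff (CommRingCat.ofHom (algebraMap k Γ(X, ⊤)))).1 inferInstance :)
  refine ⟨?_, hfin⟩
  let s : Spec (CommRingCat.of Ω) ⟶ Spec (CommRingCat.of k) := Spec.map (CommRingCat.ofHom (algebraMap k Ω))
  let z : Spec (CommRingCat.of Ω) := IsLocalRing.closedPoint Ω
  rw [show pt = s z from Subsingleton.elim (α := PrimeSpectrum k) _ _,
    (GeomLoci.nGeom_eq_counts f s z).2]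
  let a : pullback f s ⟶ pullback s (Spec.map (CommRingCat.ofHom (algebraMap k Γ(X, ⊤)))) :=
    pullback.map f s (Spec.map (CommRingCat.ofHom (algebraMap k Γ(X, ⊤)))) s X.isoSpec.hom (𝟙 _) (𝟙 _)
      (by rw [Category.comp_id, ← hf]) (by simp) ≫ (pullbackSymmetry _ _).hom
  let e := asIso a ≪≫ pullbackSpecIso k Ω Γ(X, ⊤)
  haveI : Module.Finite Ω (Ω ⊗[k] Γ(X, ⊤)) := inferInstance
  haveI : IsArtinianRing (Ω ⊗[k] Γ(X, ⊤)) := IsArtinianRing.of_finite Ω _
  haveI : DiscreteTopology ↥(pullback f s) :=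
    e.hom.homeomorph.isEmbedding.discreteTopology (Y := PrimeSpectrum (Ω ⊗[k] Γ(X, ⊤)))
  rw [QFCount.card_connectedComponents_of_discrete]
  exact ENat.card_congr e.hom.homeomorph.toEquiv

theorem finsum_residue [IsAffine X] [Module.Finite k Γ(X, ⊤)] :
    (∑ᶠ x : X, Field.finSepDegree k (X.residueField x)) =
      ∑ᶠ p : PrimeSpectrum Γ(X, ⊤),
        Field.finSepDegree k (IsLocalRing.ResidueField (Localization.AtPrime p.asIdeal)) := by
  haveI : IsArtinianRing Γ(X, ⊤) := IsArtinianRing.of_finite k _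
  refine finsum_eq_of_bijective (fun x => X.isoSpec.hom x) X.isoSpec.hom.homeomorph.bijective fun x => ?_
  let hA := isAffineOpen_top X
  let q := hA.primeIdealOf ⟨x, trivial⟩
  have hq : X.isoSpec.hom x = q := by
    apply X.isoSpec.inv.homeomorph.injective
    show X.isoSpec.inv (X.isoSpec.hom x) = X.isoSpec.inv q
    have h1 : hA.fromSpec q = x := hA.fromSpec_primeIdealOf ⟨x, trivial⟩
    rw [IsAffineOpen.fromSpec_top] at h1
    rw [← Scheme.Hom.comp_apply, Iso.hom_inv_id]
    exact h1.symm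
  rw [hq]
  letI := TopCat.Presheaf.algebra_section_stalk X.presheaf (⟨x, trivial⟩ : (⊤ : X.Opens))
  haveI : IsLocalization.AtPrime (X.presheaf.stalk x) q.asIdeal := hA.isLocalization_stalk ⟨x, trivial⟩
  let ψ : Γ(X, ⊤) →ₐ[k] X.residueField x :=
    { toRingHom := (X.residue x).hom.comp (algebraMap Γ(X, ⊤) (X.presheaf.stalk x)), commutes' := fun _ => rfl }
  have hsurj : Function.Surjective ψ :=
    (IsLocalRing.residue_surjective).comp
      (IsArtinianRing.localization_surjective q.asIdeal.primeCompl (X.presheaf.stalk x))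
  have hker : ∀ a, ψ a = 0 ↔ a ∈ q.asIdeal := fun a => by
    show IsLocalRing.residue _ (algebraMap Γ(X, ⊤) (X.presheaf.stalk x) a) = 0 ↔ _
    rw [IsLocalRing.residue_eq_zero_iff]
    exact IsLocalization.AtPrime.to_map_mem_maximal_iff (X.presheaf.stalk x) q.asIdeal a
  let Φ : q.asIdeal.ResidueField →ₐ[k] X.residueField x :=
    Ideal.ResidueField.liftₐ q.asIdeal ψ (fun a ha => (hker a).2 ha)
      (fun a ha => isUnit_iff_ne_zero.2 fun h0 => ha ((hker a).1 h0))
  refine (Field.finSepDegree_eq_of_equiv k _ _ (AlgEquiv.ofBijective Φ ⟨Φ.toRingHom.injective, fun y => ?_⟩)).symm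
  obtain ⟨a, rfl⟩ := hsurj y
  exact ⟨algebraMap _ _ a, Ideal.ResidueField.liftₐ_algebraMap _ _ _ _ _⟩

theorem nGeomConnComp_eq [IsFinite (X ↘ Spec (CommRingCat.of k))] (pt : ↥(Spec (CommRingCat.of k))) :
    MoreMor.nGeomConnComp (X ↘ Spec (CommRingCat.of k)) pt =
      ((∑ᶠ x : X, Field.finSepDegree k (X.residueField x) : ℕ) : ℕ∞) := by
  haveI : IsAffine X := isAffine_of_isAffineHom (X ↘ Spec (CommRingCat.of k))
  obtain ⟨h, hfin⟩ := card_geom_fibre k X pt (AlgebraicClosure k)
  haveI := hfin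
  haveI : IsArtinianRing (AlgebraicClosure k ⊗[k] Γ(X, ⊤)) := IsArtinianRing.of_finite (AlgebraicClosure k) _
  rw [h, finsum_residue k X, ← (Groth.Agent.S2257.result k Γ(X, ⊤) (AlgebraicClosure k)).1,
    ENat.card_eq_coe_natCard]

end Groth.Agent.SteinFin
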